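import Groth.Agent.Lib.Constr.Basic
import Groth.Agent.Lib.Constr.Topology
import Groth.Agent.Lib.ConsLim.Limit
import Groth.Agent.Lib.LimDesc.Basic
import Groth.Agent.Lib.AlgSp.ElemEtale
import Groth.Agent.Lib.EtLocal.HenselPart

/-!
# Completely decomposed morphisms descend along limits with affine transition maps
-/

set_option autoImplicit false
set_option backward.isDefEq.respectTransparency false
set_option linter.style.haveILetI false
universe u

open CategoryTheory CategoryTheory.Limits AlgebraicGeometry Topology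

noncomputable section

namespace GrothLib.CDLim8

set_option backward.isDefEq.respectTransparency true in
/-- A point with a residually trivial preimage lies on a finitely presented immersed piece with a
section. -/
theorem exists_piece {X Y : Scheme.{u}} (f : X ⟶ Y) [LocallyOfFinitePresentation f]
    [CompactSpace Y] [QuasiSeparatedSpace Y] (x : X)
    (hbij : Function.Bijective (f.residueFieldMap x)) :
    ∃ (Z : Scheme.{u}) (z : Z ⟶ Y), f x ∈ Set.range ⇑z ∧ IsImmersion z ∧
      LocallyOfFinitePresentation z ∧ QuasiCompact z ∧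
      ∃ s : Z ⟶ pullback f z, s ≫ pullback.snd f z = 𝟙 Z := by
  classical
  obtain ⟨V, hV, hyV, -⟩ := exists_isAffineOpen_mem_and_subset (show f x ∈ (⊤ : Y.Opens) from trivial)
  obtain ⟨W, hW, hxW, hWV⟩ := exists_isAffineOpen_mem_and_subset (show x ∈ f ⁻¹ᵁ V from hyV)
  let φ := f.appLE V W hWV
  have hφ : φ.hom.FinitePresentation :=
    HasRingHomProperty.appLE (P := @LocallyOfFinitePresentation) f ‹_› ⟨V, hV⟩ ⟨W, hW⟩ hWV
  let evY : Γ(Y, V) ⟶ Y.residueField (f x) := Y.presheaf.germ V (f x) hyV ≫ Y.residue (f x)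
  let evX : Γ(X, W) ⟶ X.residueField x := X.presheaf.germ W x hxW ≫ X.residue x
  have hcomm : φ ≫ evX = evY ≫ f.residueFieldMap x := by
    simp only [φ, evX, evY, Category.assoc, Scheme.residue_residueFieldMap, Scheme.Hom.appLE]
    rw [TopCat.Presheaf.germ_res_assoc, Scheme.Hom.germ_stalkMap_assoc]
  let e : Y.residueField (f x) ≃+* X.residueField x := RingEquiv.ofBijective (f.residueFieldMap x).hom hbij
  let σ : Γ(X, W) →+* Y.residueField (f x) := e.symm.toRingHom.comp evX.hom
  have hσ : σ.comp φ.hom = evY.hom := by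
    ext r
    show e.symm (evX.hom (φ.hom r)) = evY.hom r
    rw [RingEquiv.symm_apply_eq]
    exact congrArg (fun m => m.hom r) hcomm
  letI : Algebra Γ(Y, V) Γ(X, W) := φ.hom.toAlgebra
  obtain ⟨n, π, hπ, hker⟩ := (hφ : Algebra.FinitePresentation Γ(Y, V) Γ(X, W))
  obtain ⟨P, hP⟩ := hker
  have hfrac : ∀ z : Y.residueField (f x), ∃ a d : Γ(Y, V), evY.hom d ≠ 0 ∧ evY.hom d * z = evY.hom a := by
    intro z
    obtain ⟨s, rfl⟩ := Y.residue_surjective (f x) z
    haveI := hV.isLocalization_stalk ⟨f x, hyV⟩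
    letI := Y.presheaf.algebra_section_stalk (⟨f x, hyV⟩ : V)
    obtain ⟨⟨a, d⟩, hd⟩ := IsLocalization.surj (hV.primeIdealOf ⟨f x, hyV⟩).asIdeal.primeCompl s
    refine ⟨a, d.1, fun h0 => ((IsLocalRing.residue_eq_zero_iff _).1 h0)
      (IsLocalization.map_units (M := (hV.primeIdealOf ⟨f x, hyV⟩).asIdeal.primeCompl) (Y.presheaf.stalk (f x)) d), ?_⟩
    show (Y.residue (f x)).hom _ * (Y.residue (f x)).hom _ = (Y.residue (f x)).hom _
    rw [← map_mul, mul_comm]
    exact congrArg _ hd
  choose a d hd hda using fun i : Fin n => hfrac (σ (π (MvPolynomial.X i)))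
  let g : Γ(Y, V) := ∏ i, d i
  let L := Localization.Away g
  have hg : IsUnit (evY.hom g) := (Ne.isUnit (by
    simp only [g, map_prod]; exact Finset.prod_ne_zero_iff.2 fun i _ => hd i))
  let ψ : L →+* Y.residueField (f x) := IsLocalization.Away.lift g hg
  have hψ : ∀ r, ψ (algebraMap Γ(Y, V) L r) = evY.hom r := IsLocalization.Away.lift_eq g hg
  have hdu : ∀ i, IsUnit (algebraMap Γ(Y, V) L (d i)) := fun i =>
    isUnit_of_dvd_unit (map_dvd _ (Finset.dvd_prod_of_mem d (Finset.mem_univ i))) (IsLocalization.Away.algebraMap_isUnit g)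
  let c : Fin n → L := fun i => algebraMap Γ(Y, V) L (a i) * ↑(hdu i).unit⁻¹
  have hc : ∀ i, ψ (c i) = σ (π (MvPolynomial.X i)) := fun i => by
    have h1 : c i * algebraMap Γ(Y, V) L (d i) = algebraMap Γ(Y, V) L (a i) := by
      simp only [c, mul_assoc, IsUnit.val_inv_mul, mul_one]
    have h2 := congrArg ψ h1
    rw [map_mul, hψ, hψ, ← hda i, mul_comm] at h2
    exact mul_left_cancel₀ (hd i) h2
  let ev : MvPolynomial (Fin n) Γ(Y, V) →ₐ[Γ(Y, V)] L := MvPolynomial.aeval c
  have hev : ψ.comp ev.toRingHom = σ.comp π.toRingHom := by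
    refine MvPolynomial.ringHom_ext (fun r => ?_) (fun i => ?_)
    · show ψ (MvPolynomial.aeval c (MvPolynomial.C r)) = σ (π (MvPolynomial.C r))
      rw [MvPolynomial.aeval_C, hψ, ← MvPolynomial.algebraMap_eq, AlgHom.commutes]
      exact (DFunLike.congr_fun hσ r).symm
    · show ψ (MvPolynomial.aeval c (MvPolynomial.X i)) = σ (π (MvPolynomial.X i))
      rw [MvPolynomial.aeval_X, hc]
  let J : Ideal L := (RingHom.ker π.toRingHom).map ev.toRingHom
  have hJ : J.FG := Ideal.FG.map ⟨P, hP⟩ ev.toRingHom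
  have hJψ : ∀ v ∈ J, ψ v = 0 := by
    intro v hv
    refine (RingHom.mem_ker).1 ((Ideal.map_le_iff_le_comap.2 fun p hp => ?_ : J ≤ RingHom.ker ψ) hv)
    rw [Ideal.mem_comap, RingHom.mem_ker, ← RingHom.comp_apply, hev, RingHom.comp_apply,
      RingHom.mem_ker.1 hp, map_zero]
  haveI : Algebra.FinitePresentation Γ(Y, V) L := IsLocalization.Away.finitePresentation g
  haveI : Algebra.FinitePresentation Γ(Y, V) (L ⧸ J) := Algebra.FinitePresentation.quotient hJ
  let ρ : Γ(X, W) →ₐ[Γ(Y, V)] L ⧸ J :=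
    (Ideal.Quotient.liftₐ (RingHom.ker π.toRingHom) ((Ideal.Quotient.mkₐ _ J).comp ev) fun p hp =>
      Ideal.Quotient.eq_zero_iff_mem.2 (Ideal.mem_map_of_mem _ hp)).comp
      (Ideal.quotientKerAlgEquivOfSurjective hπ).symm.toAlgHom
  let z : Spec (CommRingCat.of (L ⧸ J)) ⟶ Y :=
    Spec.map (CommRingCat.ofHom (algebraMap Γ(Y, V) (L ⧸ J))) ≫ hV.fromSpec
  have himm : IsImmersion z := by
    have : z = Spec.map (CommRingCat.ofHom (Ideal.Quotient.mk J)) ≫
        Spec.map (CommRingCat.ofHom (algebraMap Γ(Y, V) L)) ≫ hV.fromSpec := by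
      rw [← Spec.map_comp_assoc, ← CommRingCat.ofHom_comp]
    rw [this]
    haveI := IsClosedImmersion.spec_of_surjective (CommRingCat.ofHom (Ideal.Quotient.mk J)) Ideal.Quotient.mk_surjective
    haveI : IsOpenImmersion (Spec.map (CommRingCat.ofHom (algebraMap Γ(Y, V) L))) :=
      IsOpenImmersion.of_isLocalization g
    infer_instance
  haveI : LocallyOfFinitePresentation (Spec.map (CommRingCat.ofHom (algebraMap Γ(Y, V) (L ⧸ J)))) :=
    (HasRingHomProperty.Spec_iff (P := @LocallyOfFinitePresentation)).2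
      (RingHom.finitePresentation_algebraMap.2 inferInstance)
  haveI : QuasiCompact hV.fromSpec := inferInstance
  refine ⟨_, z, ?_, himm, inferInstance, inferInstance, ?_⟩
  · let ψT : L ⧸ J →+* Y.residueField (f x) := Ideal.Quotient.lift J ψ hJψ
    refine ⟨(Spec.map (CommRingCat.ofHom ψT)) (IsLocalRing.closedPoint (Y.residueField (f x))), ?_⟩
    have h1 : Spec.map (CommRingCat.ofHom ψT) ≫ z = Y.fromSpecResidueField (f x) := by
      rw [← Spec.map_comp_assoc, Scheme.fromSpecResidueField, ← hV.fromSpecStalk_eq_fromSpecStalk hyV,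
        IsAffineOpen.fromSpecStalk, ← Spec.map_comp_assoc]
      congr 2
      ext r
      show ψT (Ideal.Quotient.mk J (algebraMap Γ(Y, V) L r)) = evY.hom r
      exact hψ r
    show (Spec.map (CommRingCat.ofHom ψT) ≫ z) _ = f x
    rw [h1, Scheme.fromSpecResidueField_apply]
  · have h1 : (Spec.map (CommRingCat.ofHom ρ.toRingHom) ≫ hW.fromSpec) ≫ f = 𝟙 _ ≫ z := by
      rw [Category.id_comp, Category.assoc, ← IsAffineOpen.SpecMap_appLE_fromSpec f hV hW hWV, ← Spec.map_comp_assoc]
      congr 2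
      ext r
      exact ρ.commutes r
    exact ⟨pullback.lift _ _ h1, pullback.lift_snd _ _ h1⟩

/-- The points of `Y` with a rational point above them. -/
def ratLocus {X Y : Scheme.{u}} (f : X ⟶ Y) : Set Y :=
  {y | ∃ σ : Spec (Y.residueField y) ⟶ X, σ ≫ f = Y.fromSpecResidueField y}

theorem exists_rational_iff {X Y : Scheme.{u}} (f : X ⟶ Y) (y : Y) :
    y ∈ ratLocus f ↔ ∃ x : X, f x = y ∧ Function.Bijective (f.residueFieldMap x) := by
  constructor
  · rintro ⟨σ, hσ⟩
    obtain ⟨x, hx, hiso, -⟩ := GrothLib.AlgSp.exists_isIso_residueFieldMap_of_lift f y σ hσ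
    exact ⟨x, hx, (ConcreteCategory.isIso_iff_bijective _).mp hiso⟩
  · rintro ⟨x, rfl, hx⟩
    haveI : IsIso (f.residueFieldMap x) := (ConcreteCategory.isIso_iff_bijective _).mpr hx
    refine ⟨Spec.map (inv (f.residueFieldMap x)) ≫ X.fromSpecResidueField x, ?_⟩
    rw [Category.assoc, ← Scheme.Hom.SpecMap_residueFieldMap_fromSpecResidueField, ← Category.assoc,
      ← Spec.map_comp, IsIso.hom_inv_id, Spec.map_id, Category.id_comp]

/-- The locus with rational points is ind-constructible. -/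
theorem isIndConstructible_ratLocus {X Y : Scheme.{u}} (f : X ⟶ Y) [LocallyOfFinitePresentation f]
    [CompactSpace Y] [QuasiSeparatedSpace Y] : ProCons.IsIndConstructible (ratLocus f) := by
  rw [← GrothLib.Constr.isOpen_constructibleTopology_iff_isIndConstructible,
    GrothLib.Constr.isOpen_constructibleTopology_iff]
  intro y hy
  obtain ⟨x, rfl, hx⟩ := (exists_rational_iff f y).mp hy
  obtain ⟨Z, z, hyz, hz, hfp, hqc, s, hs⟩ := exists_piece f x hx
  refine ⟨Set.range z, ?_, hyz, ?_⟩
  · have h := z.isConstructible_image (Topology.IsConstructible.univ (X := ↥Z))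
    rwa [Set.image_univ] at h
  · rintro _ ⟨v, rfl⟩
    have hb : Function.Bijective (z.residueFieldMap v) := by
      refine ⟨(z.residueFieldMap v).hom.injective, fun a ↦ ?_⟩
      obtain ⟨a, rfl⟩ := IsLocalRing.residue_surjective a
      obtain ⟨w, rfl⟩ := z.stalkMap_surjective v a
      exact ⟨Y.residue _ w, ConcreteCategory.congr_hom (Scheme.residue_residueFieldMap z v) w⟩
    haveI : IsIso (z.residueFieldMap v) := (ConcreteCategory.isIso_iff_bijective _).mpr hb
    refine ⟨Spec.map (inv (z.residueFieldMap v)) ≫ Z.fromSpecResidueField v ≫ s ≫ pullback.fst f z, ?_⟩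
    simp only [Category.assoc]
    rw [pullback.condition, reassoc_of% hs, ← Scheme.Hom.SpecMap_residueFieldMap_fromSpecResidueField,
      ← Category.assoc, ← Spec.map_comp, IsIso.hom_inv_id, Spec.map_id, Category.id_comp]

/-- Rational points pull back. -/
theorem preimage_ratLocus_subset {X Y X' Y' : Scheme.{u}} {f : X ⟶ Y} {f' : X' ⟶ Y'} {q : X' ⟶ X}
    {p : Y' ⟶ Y} (h : IsPullback q f' f p) : p ⁻¹' ratLocus f ⊆ ratLocus f' := by
  intro y hy
  obtain ⟨σ, hσ⟩ := hy
  obtain ⟨l, -, hl⟩ := h.exists_lift (Spec.map (p.residueFieldMap y) ≫ σ) (Y'.fromSpecResidueField y)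
    (by rw [Category.assoc, hσ, Scheme.Hom.SpecMap_residueFieldMap_fromSpecResidueField])
  exact ⟨l, hl⟩

variable {I : Type u} [SmallCategory I] [IsCofiltered I] (D : I ⥤ Scheme.{u}) {c : Cone D}
  (hc : IsLimit c) [∀ (i j : I) (f : i ⟶ j), IsAffineHom (D.map f)]

include hc in
/-- A rational point over a point of the limit is defined at some stage. -/
theorem exists_stage_factor {X₀ Y₀ : Scheme.{u}} (f₀ : X₀ ⟶ Y₀) [LocallyOfFinitePresentation f₀]
    (t : D ⟶ (Functor.const I).obj Y₀) (y : c.pt) (σ : Spec (c.pt.residueField y) ⟶ X₀)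
    (hσ : ∀ i, σ ≫ f₀ = c.pt.fromSpecResidueField y ≫ c.π.app i ≫ t.app i) :
    ∃ (i : I) (g : Spec ((D.obj i).residueField (c.π.app i y)) ⟶ X₀),
      g ≫ f₀ = (D.obj i).fromSpecResidueField (c.π.app i y) ≫ t.app i := by
  classical
  let s : ∀ i, D.obj i := fun i => c.π.app i y
  have hs : ∀ {i j : I} (φ : i ⟶ j), D.map φ (s i) = s j := fun {i j} φ => by
    show D.map φ (c.π.app i y) = c.π.app j y
    rw [← Scheme.Hom.comp_apply, c.w]
    rfl
  have hex : ∀ {i j : I} (φ : i ⟶ j), ∃ r : (D.obj j).residueField (s j) ⟶ (D.obj i).residueField (s i),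
      Spec.map r ≫ (D.obj j).fromSpecResidueField (s j) =
        (D.obj i).fromSpecResidueField (s i) ≫ D.map φ := by
    intro i j φ
    obtain ⟨m, hm⟩ := GrothLib.LimStage.exists_factor_residueField (D.map φ) _ _ (hs φ)
    exact ⟨Spec.preimage m, by rw [Spec.map_preimage]; exact hm⟩
  choose r hr using @hex
  let G : Iᵒᵖ ⥤ CommRingCat.{u} :=
    { obj := fun i => (D.obj i.unop).residueField (s i.unop)
      map := fun φ => r φ.unop
      map_id := fun i => by
        apply Spec.map_injective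
        rw [← cancel_mono ((D.obj i.unop).fromSpecResidueField (s i.unop)), hr, Spec.map_id,
          unop_id, D.map_id, Category.comp_id, Category.id_comp]
      map_comp := fun {i j k} φ ψ => by
        apply Spec.map_injective
        rw [← cancel_mono ((D.obj i.unop).fromSpecResidueField (s i.unop)), Spec.map_comp, hr,
          Category.assoc, hr, reassoc_of% (hr ψ.unop), unop_comp, D.map_comp] }
  let e : ∀ i : Iᵒᵖ, G.obj i ⟶ c.pt.residueField y := fun i => (c.π.app i.unop).residueFieldMap y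
  let τ : Cocone G :=
    { pt := c.pt.residueField y
      ι :=
        { app := e
          naturality := fun i j φ => by
            apply Spec.map_injective
            rw [← cancel_mono ((D.obj i.unop).fromSpecResidueField (s i.unop))]
            show (Spec.map (r φ.unop ≫ e j)) ≫ _ = Spec.map (e i ≫ 𝟙 _) ≫ _
            rw [Spec.map_comp, Category.assoc, hr, Category.comp_id]
            show Spec.map ((c.π.app j.unop).residueFieldMap y) ≫ _ ≫ _ =
              Spec.map ((c.π.app i.unop).residueFieldMap y) ≫ _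
            rw [Scheme.Hom.SpecMap_residueFieldMap_fromSpecResidueField_assoc,
              Scheme.Hom.SpecMap_residueFieldMap_fromSpecResidueField, c.w]
            rfl } }
  let A : CommRingCat.{u} := colimit G
  let ψ : A ⟶ c.pt.residueField y := colimit.desc G τ
  haveI : Nontrivial A := ψ.hom.domain_nontrivial
  have hA : IsField A := by
    refine ⟨exists_pair_ne A, mul_comm, fun {a} ha => ?_⟩
    obtain ⟨i, b, hb⟩ := Concrete.colimit_exists_rep G a
    have hb0 : b ≠ 0 := fun h => ha (by rw [← hb, h, map_zero])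
    obtain ⟨b', hb'⟩ := (Field.toIsField ((D.obj i.unop).residueField (s i.unop))).mul_inv_cancel hb0
    exact ⟨colimit.ι G i b', by rw [← hb, ← map_mul, hb', map_one]⟩
  let α : (G.rightOp ⋙ Scheme.Spec) ⟶ D :=
    { app := fun i => (D.obj i).fromSpecResidueField (s i)
      naturality := fun i j φ => hr φ }
  let c' : Cone (G.rightOp ⋙ Scheme.Spec) := Scheme.Spec.mapCone (coneRightOpOfCocone (colimit.cocone G))
  have hc' : IsLimit c' :=
    isLimitOfPreserves Scheme.Spec (isLimitConeRightOpOfCocone _ (colimit.isColimit G))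
  haveI : ∀ {i j : I} (φ : i ⟶ j), IsAffineHom ((G.rightOp ⋙ Scheme.Spec).map φ) := fun φ =>
    inferInstanceAs (IsAffineHom (Spec.map _))
  haveI : ∀ i, CompactSpace ((G.rightOp ⋙ Scheme.Spec).obj i) := fun i =>
    inferInstanceAs (CompactSpace (Spec _))
  haveI : ∀ i, QuasiSeparatedSpace ((G.rightOp ⋙ Scheme.Spec).obj i) := fun i =>
    inferInstanceAs (QuasiSeparatedSpace (Spec _))
  let l : Spec A ⟶ c.pt := hc.lift ((Cone.postcompose α).obj c')
  have hl : ∀ i, l ≫ c.π.app i = Spec.map (colimit.ι G (Opposite.op i)) ≫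
      (D.obj i).fromSpecResidueField (s i) := fun i => hc.fac _ i
  letI : Field A := hA.toField
  obtain ⟨⟨p, φ⟩, hφ⟩ := (c.pt.SpecToEquivOfField A).symm.surjective l
  replace hφ : Spec.map φ ≫ c.pt.fromSpecResidueField p = l := hφ
  obtain rfl : p = y := GrothLib.LimStage.eq_of_forall_π_eq D c hc fun i => by
    have h := congrArg (fun m : _ ⟶ D.obj i => m (IsLocalRing.closedPoint A)) (hl i)
    rw [← hφ, Scheme.Hom.comp_apply, Scheme.Hom.comp_apply, Scheme.Hom.comp_apply,
      Scheme.fromSpecResidueField_apply] at h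
    exact h.trans (Scheme.fromSpecResidueField_apply (s i) _)
  obtain ⟨i, g, -, hg⟩ := Scheme.exists_π_app_comp_eq_of_locallyOfFinitePresentation
    (G.rightOp ⋙ Scheme.Spec) (α ≫ t) f₀ c' hc' (Spec.map φ ≫ σ) (by
      ext i
      show Spec.map (colimit.ι G (Opposite.op i)) ≫ (D.obj i).fromSpecResidueField (s i) ≫ t.app i =
        (Spec.map φ ≫ σ) ≫ f₀
      rw [Category.assoc, hσ i, ← Category.assoc (Spec.map φ), hφ, ← Category.assoc, ← hl i,
        Category.assoc])
  exact ⟨i, g, hg⟩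

variable {i₀ : I} {X₀ Y₀ : Scheme.{u}} (f₀ : X₀ ⟶ Y₀) (q₀ : Y₀ ⟶ D.obj i₀)

include hc in
/-- Completely decomposed morphisms descend to a stage. -/
theorem exists_stage_ratLocus_eq_univ [CompactSpace Y₀] [QuasiSeparatedSpace Y₀]
    [LocallyOfFinitePresentation f₀] {X Y : Scheme.{u}} {f : X ⟶ Y} {q : Y ⟶ c.pt} {pY : Y ⟶ Y₀}
    {pX : X ⟶ X₀} (hY : IsPullback pY q q₀ (c.π.app i₀)) (hX : IsPullback pX f f₀ pY)
    (hcd : ∀ y : Y, y ∈ ratLocus f) :
    ∃ j : Over i₀, ∀ y, y ∈ ratLocus ((GrothLib.LimDesc.mapNat D i₀ q₀ (f₀ ≫ q₀) f₀ rfl).app j) := by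
  let E := GrothLib.LimDesc.diag D i₀ q₀
  let N := GrothLib.LimDesc.mapNat D i₀ q₀ (f₀ ≫ q₀) f₀ rfl
  let cY := GrothLib.LimDesc.cone D i₀ q₀ hY
  have hcY : IsLimit cY := GrothLib.LimDesc.isLimitCone D i₀ q₀ hY hc
  let top : Over i₀ := Over.mk (𝟙 i₀)
  haveI : ∀ j : Over i₀, LocallyOfFinitePresentation (N.app j) := fun j =>
    MorphismProperty.of_isPullback (GrothLib.LimDesc.isPullback_mapNat D i₀ q₀ (f₀ ≫ q₀) f₀ rfl j)
      ‹LocallyOfFinitePresentation f₀›
  obtain ⟨j, -, hj⟩ := GrothLib.ConsLim.exists_stage_subset E cY hcY top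
    (fun _ => Set.univ) (fun j => ratLocus (N.app j))
    (fun j => by
      rw [← GrothLib.Constr.isClosed_constructibleTopology_iff_isProConstructible]
      exact @isClosed_univ _ (constructibleTopology _))
    (fun j => isIndConstructible_ratLocus _)
    (fun _ _ _ => Set.subset_univ _)
    (fun j k φ => preimage_ratLocus_subset
      (GrothLib.LimDesc.isPullback_mapNat_map D i₀ q₀ (f₀ ≫ q₀) f₀ rfl φ))
    (fun y _ => by
      obtain ⟨σ, hσ⟩ := hcd y
      obtain ⟨j, g, hg⟩ := exists_stage_factor E hcY f₀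
        { app := fun j => pullback.fst q₀ (D.map j.hom)
          naturality := fun j k φ => by simpa [E] using GrothLib.LimDesc.map_fst D i₀ q₀ φ }
        y (σ ≫ pX) (fun j => by
          show (σ ≫ pX) ≫ f₀ = _
          rw [Category.assoc, hX.w, reassoc_of% hσ]
          exact congrArg _ (GrothLib.LimDesc.π_fst D i₀ q₀ hY j).symm)
      obtain ⟨l, -, hl⟩ := (GrothLib.LimDesc.isPullback_mapNat D i₀ q₀ (f₀ ≫ q₀) f₀ rfl j).exists_lift g
        ((E.obj j).fromSpecResidueField (cY.π.app j y)) hg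
      exact Set.mem_iUnion.mpr ⟨j, l, hl⟩)
  exact ⟨j, fun y => hj j (𝟙 j) (Set.mem_univ y)⟩

end GrothLib.CDLim8
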